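import Groth.Prelude.Def_DRing2
import Groth.Agent.DRing.DBasic
import Mathlib.Algebra.Homology.DerivedCategory.Linear
import Mathlib.Algebra.Homology.DerivedCategory.SingleTriangle
import Mathlib.RingTheory.Filtration
import Mathlib.LinearAlgebra.FreeModule.Finite.Basic

/-!
# Ext out of pseudo-coherent complexes and Artin-Rees

* `exists_finite_cycles` : `Hom(K, M[p])` is a functorial quotient of cocycles.
* `map_mem_smul_top` : image of `Hom(K, IⁿM[p])` in `Hom(K, M[p])` lies in `I^(n-c)`.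
* `finite_hom` : `Hom(K, M[p])` is finite.
-/

set_option autoImplicit false
set_option linter.style.haveILetI false
universe u

open CategoryTheory CategoryTheory.Limits DerivedCategory

attribute [local instance] HasDerivedCategory.standard

namespace Groth.Agent.ExtAR

variable {A : Type u} [CommRing A]

/-- `M[0][p] ≅` the single complex in degree `-p`. -/
noncomputable def shiftSingleIso (p : ℤ) (M : ModuleCat.{u} A) :
    ((singleFunctor (ModuleCat.{u} A) 0).obj M)⟦p⟧ ≅
      Q.obj ((CochainComplex.singleFunctor (ModuleCat.{u} A) (-p)).obj M) :=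
  ((singleFunctors (ModuleCat.{u} A)).shiftIso p (-p) 0 (by omega)).app M ≪≫
    (singleFunctorIsoCompQ (ModuleCat.{u} A) (-p)).app M

lemma shiftSingleIso_hom_naturality (p : ℤ) {M N : ModuleCat.{u} A} (g : M ⟶ N) :
    ((singleFunctor (ModuleCat.{u} A) 0).map g)⟦p⟧' ≫ (shiftSingleIso p N).hom =
      (shiftSingleIso p M).hom ≫ Q.map ((CochainComplex.singleFunctor (ModuleCat.{u} A) (-p)).map g) := by
  have h := ((singleFunctors (ModuleCat.{u} A)).shiftIso p (-p) 0 (by omega)).hom.naturality g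
  have h' := (singleFunctorIsoCompQ (ModuleCat.{u} A) (-p)).hom.naturality g
  simp only [Functor.comp_map] at h h'
  simp only [shiftSingleIso, Iso.trans_hom, Iso.app_hom]
  rw [reassoc_of% h, h', Category.assoc]

variable (E : DRing.Cx A) (p : ℤ)

/-- The cocycles of `Hom(E, M)` in degree `p`. -/
def cycles (M : Type u) [AddCommGroup M] [Module A M] : Submodule A (E.X (-p) →ₗ[A] M) :=
  LinearMap.ker (LinearMap.lcomp A M (E.d (-p - 1) (-p)).hom)

variable {E p}

lemma cycles_comp {M N : Type u} [AddCommGroup M] [Module A M] [AddCommGroup N] [Module A N]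
    (g : M →ₗ[A] N) (φ : cycles E p M) : g.comp φ.1 ∈ cycles E p N := by
  show (g.comp φ.1).comp _ = 0
  rw [LinearMap.comp_assoc, show φ.1.comp (E.d (-p - 1) (-p)).hom = 0 from φ.2, LinearMap.comp_zero]

variable (E p)

/-- The chain map given by a cocycle. -/
noncomputable def chain {M : Type u} [AddCommGroup M] [Module A M] (φ : cycles E p M) :
    E ⟶ (CochainComplex.singleFunctor (ModuleCat.{u} A) (-p)).obj (ModuleCat.of A M) :=
  HomologicalComplex.mkHomToSingle (ModuleCat.ofHom φ.1) (fun i hi => by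
    obtain rfl : i = -p - 1 := by simp at hi; omega
    exact ModuleCat.hom_ext φ.2)

lemma chain_f {M : Type u} [AddCommGroup M] [Module A M] (φ : cycles E p M) :
    (chain E p φ).f (-p) = ModuleCat.ofHom φ.1 ≫
      (HomologicalComplex.singleObjXSelf (ComplexShape.up ℤ) (-p) (ModuleCat.of A M)).inv :=
  HomologicalComplex.mkHomToSingle_f _ _

lemma chain_comp {M N : Type u} [AddCommGroup M] [Module A M] [AddCommGroup N] [Module A N]
    (g : M →ₗ[A] N) (φ : cycles E p M) :
    chain E p φ ≫ (CochainComplex.singleFunctor (ModuleCat.{u} A) (-p)).map (ModuleCat.ofHom g) =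
      chain E p ⟨g.comp φ.1, cycles_comp g φ⟩ := by
  apply HomologicalComplex.to_single_hom_ext
  rw [HomologicalComplex.comp_f, chain_f, chain_f]
  erw [HomologicalComplex.single_map_f_self]
  refine (Category.assoc _ _ _).trans ?_
  refine congrArg (ModuleCat.ofHom φ.1 ≫ ·) (Iso.inv_hom_id_assoc _ _) |>.trans ?_
  exact (Category.assoc _ _ _).symm

/-- Cocycles give morphisms in the derived category. -/
noncomputable def classMap (M : Type u) [AddCommGroup M] [Module A M] :
    cycles E p M →ₗ[A] (DRing.toD E ⟶ (Dual.inD A M)⟦p⟧) where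
  toFun φ := Q.map (chain E p φ) ≫ (shiftSingleIso p (ModuleCat.of A M)).inv
  map_add' a b := by
    rw [← Preadditive.add_comp, ← Functor.map_add]
    congr 2
    apply HomologicalComplex.to_single_hom_ext
    rw [HomologicalComplex.add_f_apply, chain_f, chain_f, chain_f]
    exact Preadditive.add_comp (C := ModuleCat.{u} A) _ _ _ (ModuleCat.ofHom a.1) (ModuleCat.ofHom b.1) _
  map_smul' r a := by
    rw [RingHom.id_apply, ← Linear.smul_comp, ← Functor.map_smul]
    congr 2
    apply HomologicalComplex.to_single_hom_ext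
    rw [HomologicalComplex.smul_f_apply, chain_f, chain_f]
    exact Linear.smul_comp _ _ _ r (ModuleCat.ofHom a.1) _

lemma classMap_comp {M N : Type u} [AddCommGroup M] [Module A M] [AddCommGroup N] [Module A N]
    (g : M →ₗ[A] N) (φ : cycles E p M) :
    classMap E p M φ ≫ ((singleFunctor (ModuleCat.{u} A) 0).map (ModuleCat.ofHom g))⟦p⟧' =
      classMap E p N ⟨g.comp φ.1, cycles_comp g φ⟩ := by
  show (Q.map _ ≫ _) ≫ _ = Q.map _ ≫ _
  rw [← chain_comp E p g φ, Functor.map_comp, Category.assoc, Category.assoc]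
  congr 1
  rw [Iso.inv_comp_eq, ← Category.assoc, Iso.eq_comp_inv]
  exact shiftSingleIso_hom_naturality p (ModuleCat.ofHom g)

lemma classMap_surjective [E.IsKProjective] (M : Type u) [AddCommGroup M] [Module A M] :
    Function.Surjective (classMap E p M) := by
  intro e
  obtain ⟨χ, hχ⟩ := Groth.Agent.DRing.DBasic.exists_Q_map_eq
    (L := (CochainComplex.singleFunctor (ModuleCat.{u} A) (-p)).obj (ModuleCat.of A M))
    (e ≫ (shiftSingleIso p (ModuleCat.of A M)).hom)
  let φ : E.X (-p) ⟶ ModuleCat.of A M :=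
    χ.f (-p) ≫ (HomologicalComplex.singleObjXSelf (ComplexShape.up ℤ) (-p) (ModuleCat.of A M)).hom
  have hφ : φ.hom ∈ cycles E p M := by
    have h : E.d (-p - 1) (-p) ≫ φ = 0 := by
      refine (Category.assoc _ _ _).symm.trans ?_
      rw [← χ.comm (-p - 1) (-p)]
      erw [HomologicalComplex.single_obj_d, comp_zero]
      exact zero_comp
    exact congrArg ModuleCat.Hom.hom h
  refine ⟨⟨φ.hom, hφ⟩, ?_⟩
  show Q.map _ ≫ _ = e
  have hc : chain E p ⟨φ.hom, hφ⟩ = χ := by
    apply HomologicalComplex.to_single_hom_ext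
    rw [chain_f]
    show φ ≫ _ = _
    refine (Category.assoc _ _ _).trans ?_
    erw [Iso.hom_inv_id]
    exact Category.comp_id _
  rw [hc, hχ, Category.assoc, Iso.hom_inv_id, Category.comp_id]

variable {E p}

lemma exists_finite_cycles {K : Dual.D A} (hK : DRing.IsPseudoCoherent' A K) (p : ℤ) :
    ∃ (F : Type u) (_ : AddCommGroup F) (_ : Module A F) (_ : Module.Finite A F) (_ : Module.Free A F)
      (Z : ∀ (M : Type u) [AddCommGroup M] [Module A M], Submodule A (F →ₗ[A] M))
      (Φ : ∀ (M : Type u) [AddCommGroup M] [Module A M], Z M →ₗ[A] (K ⟶ (Dual.inD A M)⟦p⟧)),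
      (∀ (M : Type u) [AddCommGroup M] [Module A M], Function.Surjective (Φ M)) ∧
      ∀ (M N : Type u) [AddCommGroup M] [Module A M] [AddCommGroup N] [Module A N] (g : M →ₗ[A] N)
        (φ : Z M), ∃ h : g.comp φ.1 ∈ Z N, Φ M φ ≫
          ((singleFunctor (ModuleCat.{u} A) 0).map (ModuleCat.ofHom g))⟦p⟧' = Φ N ⟨_, h⟩ := by
  obtain ⟨E, b, hb, hf, ⟨α⟩⟩ := hK
  haveI : E.IsKProjective := Groth.Agent.DRing.DBasic.isKProjective_of_projective E b hb
    (fun i => have := (hf i).2; inferInstance)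
  haveI := (hf (-p)).1
  haveI := (hf (-p)).2
  refine ⟨E.X (-p), inferInstance, inferInstance, inferInstance, inferInstance,
    fun M _ _ => cycles E p M, fun M _ _ => (Linear.leftComp A _ α.inv).comp (classMap E p M),
    fun M _ _ e => ?_, fun M N _ _ _ _ g φ => ⟨cycles_comp g φ, ?_⟩⟩
  · obtain ⟨φ, hφ⟩ := classMap_surjective E p M (α.hom ≫ e)
    exact ⟨φ, by show α.inv ≫ classMap E p M φ = e; rw [hφ, Iso.inv_hom_id_assoc]⟩
  · show (α.inv ≫ _) ≫ _ = α.inv ≫ _
    rw [Category.assoc, classMap_comp]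

/-- `Hom(K, M[p])` is finite for `K` pseudo-coherent and `M` finite over a Noetherian ring. -/
lemma finite_hom [IsNoetherianRing A] {K : Dual.D A} (hK : DRing.IsPseudoCoherent' A K)
    (M : Type u) [AddCommGroup M] [Module A M] [Module.Finite A M] (p : ℤ) :
    Module.Finite A (K ⟶ (Dual.inD A M)⟦p⟧) := by
  obtain ⟨F, _, _, _, _, Z, Φ, hs, -⟩ := exists_finite_cycles hK p
  exact Module.Finite.of_surjective (Φ M) (hs M)

lemma comp_subtype_mem_smul {F M : Type u} [AddCommGroup F] [Module A F] [Module.Finite A F]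
    [Module.Free A F] [AddCommGroup M] [Module A M] (J : Ideal A) (φ : F →ₗ[A] M)
    (hφ : ∀ x, φ x ∈ (J • ⊤ : Submodule A M)) :
    φ ∈ (J • ⊤ : Submodule A (F →ₗ[A] M)) := by
  classical
  let b := Module.Free.chooseBasis A F
  have hsum : φ = ∑ i, (b.coord i).smulRight (φ (b i)) := by
    apply b.ext
    intro j
    simp [Finsupp.single_apply]
  rw [hsum]
  refine sum_mem fun i _ => ?_
  have h := Submodule.mem_map_of_mem (f := LinearMap.smulRightₗ (b.coord i)) (hφ (b i))
  rw [Submodule.map_smul''] at h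
  exact Submodule.smul_mono le_rfl le_top h

/-- Artin–Rees for `Hom(K, -[p])`. -/
theorem map_mem_smul_top' [IsNoetherianRing A] (I : Ideal A) {K : Dual.D A}
    (hK : DRing.IsPseudoCoherent' A K) (M : Type u) [AddCommGroup M] [Module A M] [Module.Finite A M]
    (p : ℤ) : ∃ c : ℕ, ∀ n : ℕ, c ≤ n → ∀ (W : Type u) [AddCommGroup W] [Module A W] (g : W →ₗ[A] M),
      (∀ x, g x ∈ (I ^ n • ⊤ : Submodule A M)) →
      ∀ e : K ⟶ (Dual.inD A W)⟦p⟧,
        e ≫ ((singleFunctor (ModuleCat.{u} A) 0).map (ModuleCat.ofHom g))⟦p⟧' ∈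
          (I ^ (n - c) • ⊤ : Submodule A (K ⟶ (Dual.inD A M)⟦p⟧)) := by
  obtain ⟨F, _, _, _, _, Z, Φ, hs, hnat⟩ := exists_finite_cycles hK p
  obtain ⟨c, hc⟩ := Ideal.exists_pow_inf_eq_pow_smul I (Z M)
  refine ⟨c, fun n hn W _ _ g hW e => ?_⟩
  obtain ⟨φ, rfl⟩ := hs W e
  obtain ⟨h, heq⟩ := hnat W M g φ
  rw [heq]
  have h1 : g.comp φ.1 ∈ (I ^ (n - c) • Z M : Submodule A (F →ₗ[A] M)) := by
    refine Submodule.smul_mono le_rfl inf_le_right ((hc n hn).le ⟨?_, h⟩)
    exact comp_subtype_mem_smul (I ^ n) _ fun x => hW (φ.1 x)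
  have h2 : (⟨_, h⟩ : Z M) ∈ (I ^ (n - c) • ⊤ : Submodule A (Z M)) := by
    have hmap : (I ^ (n - c) • ⊤ : Submodule A (Z M)).map (Z M).subtype = I ^ (n - c) • Z M := by
      rw [Submodule.map_smul'', Submodule.map_subtype_top]
    rw [← hmap] at h1
    obtain ⟨z, hz, hz'⟩ := h1
    rwa [show z = ⟨_, h⟩ from Subtype.ext hz'] at hz
  have h3 := Submodule.mem_map_of_mem (f := Φ M) h2
  rw [Submodule.map_smul''] at h3
  exact Submodule.smul_mono le_rfl le_top h3

/-- Artin–Rees for `Hom(K, -[p])`, submodule form. -/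
theorem map_mem_smul_top [IsNoetherianRing A] (I : Ideal A) {K : Dual.D A}
    (hK : DRing.IsPseudoCoherent' A K) (M : Type u) [AddCommGroup M] [Module A M] [Module.Finite A M]
    (p : ℤ) : ∃ c : ℕ, ∀ n : ℕ, c ≤ n → ∀ (W : Submodule A M), W ≤ I ^ n • ⊤ →
      ∀ e : K ⟶ (Dual.inD A W)⟦p⟧,
        e ≫ ((singleFunctor (ModuleCat.{u} A) 0).map (ModuleCat.ofHom W.subtype))⟦p⟧' ∈
          (I ^ (n - c) • ⊤ : Submodule A (K ⟶ (Dual.inD A M)⟦p⟧)) := by
  obtain ⟨c, hc⟩ := map_mem_smul_top' I hK M p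
  exact ⟨c, fun n hn W hW e => hc n hn W W.subtype (fun x => hW x.2) e⟩

end Groth.Agent.ExtAR
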