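import Groth.Agent.ExtAR.Basic
import Mathlib.CategoryTheory.Triangulated.TriangleShift
import Mathlib.Algebra.Homology.ShortComplex.ModuleCat
import Mathlib.Algebra.Category.ModuleCat.EpiMono

/-!
# Exactness of `Hom(K, -[i])` on short exact sequences of modules
-/

set_option autoImplicit false
universe v' u' u

open CategoryTheory CategoryTheory.Limits CategoryTheory.Pretriangulated DerivedCategory

attribute [local instance] HasDerivedCategory.standard

namespace Groth.Agent.ExtAR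

section Triangle

variable {C : Type u'} [Category.{v'} C] [HasZeroObject C] [HasShift C ℤ] [Preadditive C]
  [∀ n : ℤ, (shiftFunctor C n).Additive] [Pretriangulated C]

lemma comp_units_smul (u : ℤˣ) {P Q R : C} (g : P ⟶ Q) (h : Q ⟶ R) :
    g ≫ (u • h) = (u • g) ≫ h := by
  simp only [Units.smul_def, Preadditive.comp_zsmul, Preadditive.zsmul_comp]

lemma comp_units_smul_eq_zero (u : ℤˣ) {P Q R : C} (g : P ⟶ Q) (h : Q ⟶ R) (hgh : g ≫ h = 0) :
    g ≫ (u • h) = 0 := by
  rw [Units.smul_def, Preadditive.comp_zsmul, hgh, smul_zero]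

lemma exact₂_shift (T : Triangle C) (hT : T ∈ distTriang C) (i : ℤ) {X : C} (f : X ⟶ T.obj₂⟦i⟧)
    (hf : f ≫ T.mor₂⟦i⟧' = 0) : ∃ g : X ⟶ T.obj₁⟦i⟧, f = g ≫ T.mor₁⟦i⟧' := by
  obtain ⟨g, hg⟩ := Triangle.coyoneda_exact₂ _ (Triangle.shift_distinguished T hT i) f
    (comp_units_smul_eq_zero i.negOnePow f _ hf)
  exact ⟨i.negOnePow • g, hg.trans (comp_units_smul i.negOnePow g _)⟩

lemma exact₃_shift (T : Triangle C) (hT : T ∈ distTriang C) (i : ℤ) {X : C} (f : X ⟶ T.obj₃⟦i⟧)
    (hf : f ≫ T.mor₃⟦i⟧' = 0) : ∃ g : X ⟶ T.obj₂⟦i⟧, f = g ≫ T.mor₂⟦i⟧' := by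
  obtain ⟨g, hg⟩ := Triangle.coyoneda_exact₃ _ (Triangle.shift_distinguished T hT i) f
    (comp_units_smul_eq_zero i.negOnePow f _
      ((Category.assoc _ _ _).symm.trans ((congrArg (· ≫ _) hf).trans zero_comp)))
  exact ⟨i.negOnePow • g, hg.trans (comp_units_smul i.negOnePow g _)⟩

end Triangle

variable {A : Type u} [CommRing A]

/-- `0 → W → M → M ⧸ W → 0`. -/
noncomputable def sesQ {M : Type u} [AddCommGroup M] [Module A M] (W : Submodule A M) :
    ShortComplex (ModuleCat.{u} A) :=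
  ShortComplex.mk (ModuleCat.ofHom W.subtype) (ModuleCat.ofHom W.mkQ)
    (ModuleCat.hom_ext (LinearMap.ext fun x => (Submodule.Quotient.mk_eq_zero W).2 x.2))

lemma sesQ_shortExact {M : Type u} [AddCommGroup M] [Module A M] (W : Submodule A M) :
    (sesQ W).ShortExact where
  exact := (sesQ W).moduleCat_exact_iff.2 fun x hx =>
    ⟨⟨x, (Submodule.Quotient.mk_eq_zero W).1 hx⟩, rfl⟩
  mono_f := (ModuleCat.mono_iff_injective _).2 Subtype.val_injective
  epi_g := (ModuleCat.epi_iff_surjective _).2 W.mkQ_surjective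

/-- The morphism between the sequences of two submodules `V ≤ W`. -/
noncomputable def sesQMap {M : Type u} [AddCommGroup M] [Module A M] {V W : Submodule A M}
    (h : V ≤ W) : sesQ V ⟶ sesQ W where
  τ₁ := ModuleCat.ofHom (Submodule.inclusion h)
  τ₂ := 𝟙 _
  τ₃ := ModuleCat.ofHom (Submodule.mapQ V W LinearMap.id h)
  comm₁₂ := rfl
  comm₂₃ := rfl

/-- A finite module of `I`-power torsion elements is killed by a power of `I`. -/
lemma exists_pow_smul_top_eq_bot {H : Type*} [AddCommGroup H] [Module A H] [Module.Finite A H]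
    (I : Ideal A) (h : ∀ e : H, ∃ n : ℕ, ∀ x ∈ I ^ n, x • e = 0) :
    ∃ N : ℕ, ∀ k, N ≤ k → (I ^ k • ⊤ : Submodule A H) = ⊥ := by
  obtain ⟨s, hs⟩ := Module.Finite.fg_top (R := A) (M := H)
  choose n hn using h
  refine ⟨s.sup n, fun k hk => eq_bot_iff.2 ?_⟩
  rw [← hs, Submodule.smul_le]
  intro r hr x hx
  rw [Submodule.mem_bot]
  induction hx using Submodule.span_induction with
  | mem y hy => exact hn y r (Ideal.pow_le_pow_right ((Finset.le_sup hy).trans hk) hr)
  | zero => exact smul_zero r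
  | add y z _ _ hy hz => rw [smul_add, hy, hz, add_zero]
  | smul a y _ hy => rw [smul_comm, hy, smul_zero]

end Groth.Agent.ExtAR
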